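import Mathlib

/-!
Detecting isomorphisms among immersions by flat surjective morphisms.
-/

set_option autoImplicit false

universe u

open CategoryTheory Limits AlgebraicGeometry

namespace Groth.Agent.MultLift

theorem ker_eq_bot_of_flat_surjective {X Y : Scheme.{u}} (f : X ⟶ Y) [Flat f] [Surjective f] : f.ker = ⊥ := by
  refine eq_bot_iff.2 fun U s hs => ?_
  replace hs : f.app U s = 0 := f.ideal_ker_le U hs
  simp only [Scheme.IdealSheafData.ideal_bot, Pi.bot_apply, Ideal.mem_bot]
  apply TopCat.Presheaf.section_ext Y.sheaf (U : Y.Opens)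
  intro y hy
  obtain ⟨x, rfl⟩ := f.surjective y
  have hinj : Function.Injective (f.stalkMap x).hom := by
    algebraize [(f.stalkMap x).hom]
    have : Module.FaithfullyFlat (Y.presheaf.stalk (f x)) (X.presheaf.stalk x) :=
      @Module.FaithfullyFlat.of_flat_of_isLocalHom _ _ _ _ _ _ _ (Flat.stalkMap f x) (f.toLRSHom.prop x)
    exact ‹RingHom.FaithfullyFlat _›.injective
  apply hinj
  change f.stalkMap x (Y.presheaf.germ _ _ hy s) = f.stalkMap x (Y.presheaf.germ _ _ hy 0)
  simp [Scheme.Hom.germ_stalkMap_apply, hs]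

/-- An immersion through which a flat surjective morphism factors is an isomorphism. -/
theorem isIso_of_factor {P Q Y : Scheme.{u}} (p : P ⟶ Y) [IsPreimmersion p] (q : Q ⟶ Y) [Flat q] [Surjective q]
    (s : Q ⟶ P) (hs : s ≫ p = q) : IsIso p := by
  have hr : Set.range p = Set.univ := Set.eq_univ_of_forall fun y => by
    obtain ⟨x, rfl⟩ := q.surjective y
    exact ⟨s x, by rw [← hs]; rfl⟩
  haveI : IsClosedImmersion p := .of_isPreimmersion p (hr ▸ isClosed_univ)
  rw [IsClosedImmersion.isIso_iff_ker_eq_bot, eq_bot_iff, ← ker_eq_bot_of_flat_surjective q, ← hs]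
  exact Scheme.Hom.le_ker_comp _ _

end Groth.Agent.MultLift
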