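import Groth.Agent.MultLiftLib.Lift
import Groth.Agent.MultLiftLib.KerBot
import Groth.Agent.TrivNilLib.Scheme

/-!
Central subgroups of multiplicative type which agree modulo a nilpotent ideal are equal.
-/

set_option autoImplicit false

noncomputable section

universe u

open CategoryTheory CategoryTheory.Limits MonoidalCategory CartesianMonoidalCategory AlgebraicGeometry CoactBr
open scoped MonObj TensorProduct

namespace Groth.Agent.MultLift

open Groth.Agent.FreeAct (DA)
open Groth.Agent.DiagRep (baseHom isMonHom_of_comp_mono isMonHom_bc_map)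

attribute [local instance] CoactBr.braidedAlgSpecOf

section Hom

variable {S : Scheme.{u}} {H G : Over S} [GrpObj H] [GrpObj G]

/-- Centrality of a homomorphism. -/
def Central (f : H ⟶ G) : Prop := ∀ (X : Over S) (g : X ⟶ G) (h : X ⟶ H), g * (h ≫ f) = (h ≫ f) * g

theorem hom_mul (e : H ⟶ G) [IsMonHom e] {X : Over S} (a b : X ⟶ H) : (a * b) ≫ e = (a ≫ e) * (b ≫ e) :=
  MonObj.mul_comp a b e

theorem isMonHom_mul_inv {e f : H ⟶ G} [IsMonHom e] [IsMonHom f] (hf : Central f) : IsMonHom (e * f⁻¹) where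
  one_hom := by
    rw [MonObj.comp_mul, GrpObj.comp_inv, IsMonHom.one_hom e, IsMonHom.one_hom f]
    simp [MonObj.one_eq_one]
  mul_hom := by
    have h : ((e * f⁻¹) ⊗ₘ (e * f⁻¹)) ≫ μ[G] = (fst H H ≫ (e * f⁻¹)) * (snd H H ≫ (e * f⁻¹)) := by
      rw [MonObj.mul_eq_mul]
      simp [MonObj.comp_mul, tensorHom_fst, tensorHom_snd]
    have hμ : μ[H] = fst H H * snd H H := MonObj.mul_eq_mul H
    rw [h, hμ, MonObj.comp_mul, GrpObj.comp_inv, hom_mul, hom_mul, MonObj.comp_mul, MonObj.comp_mul,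
      GrpObj.comp_inv, GrpObj.comp_inv, mul_inv_rev]
    have c1 : Commute (fst H H ≫ f)⁻¹ (snd H H ≫ e) :=
      (show Commute (fst H H ≫ f) (snd H H ≫ e) from (hf _ (snd H H ≫ e) (fst H H)).symm).inv_left
    have c2 : Commute (snd H H ≫ f)⁻¹ (fst H H ≫ f)⁻¹ :=
      (show Commute (snd H H ≫ f) (fst H H ≫ f) from (hf _ (fst H H ≫ f) (snd H H)).symm).inv_inv
    generalize fst H H ≫ e = a, snd H H ≫ e = b at *
    generalize (fst H H ≫ f)⁻¹ = a', (snd H H ≫ f)⁻¹ = b' at *
    have e : a' * (b * b') = b * (b' * a') := by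
      rw [← mul_assoc, c1.eq, mul_assoc, ← c2.eq]
    rw [mul_assoc a b, mul_assoc a a', e]

theorem central_comp {H' : Over S} [GrpObj H'] {f : H ⟶ G} (hf : Central f) (φ : H' ⟶ H) : Central (φ ≫ f) :=
  fun X g h => by rw [← Category.assoc]; exact hf X g (h ≫ φ)

/-- Translation by a homomorphism. -/
def transAction (d : H ⟶ G) [IsMonHom d] : AlgGrp.Action H G where
  act := (fst H G ≫ d) * snd H G
  one_act := by
    simp only [MonObj.comp_mul, whiskerRight_fst_assoc, whiskerRight_snd]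
    rw [IsMonHom.one_hom, leftUnitor_hom]
    have h1 : fst (𝟙_ (Over S)) G ≫ η[G] = (1 : 𝟙_ (Over S) ⊗ G ⟶ G) := by
      rw [MonObj.one_eq_one, MonObj.comp_one]
    rw [h1, one_mul]
  mul_act := by
    simp only [MonObj.comp_mul, whiskerRight_fst_assoc, whiskerRight_snd,
      whiskerLeft_fst_assoc, whiskerLeft_snd, associator_hom_fst_assoc, associator_hom_snd_fst_assoc,
      associator_hom_snd_snd, Category.assoc, IsMonHom.mul_hom]
    have h1 : ((d ⊗ₘ d) ≫ μ[G]) = (fst H H ≫ d) * (snd H H ≫ d) := by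
      rw [MonObj.mul_eq_mul]
      simp [MonObj.comp_mul, tensorHom_fst, tensorHom_snd]
    rw [h1]
    simp only [MonObj.comp_mul, Category.assoc, mul_assoc]

theorem lift_transAction (d : H ⟶ G) [IsMonHom d] {Y : Over S} (g : Y ⟶ H) (x : Y ⟶ G) :
    lift g x ≫ (transAction d).act = (g ≫ d) * x := by
  simp [transAction, MonObj.comp_mul]

end Hom

section Split

variable {R : Type u} [CommRing R] {M M' : Type} [AddCommGroup M] [AddCommGroup M']
  {G H H' : Over (Spec (CommRingCat.of R))} [GrpObj G] [GrpObj H] [GrpObj H']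

/-- The first subgroup lies in the second modulo `J`, on points. -/
def LeMod (i : H ⟶ G) (i' : H' ⟶ G) (J : Ideal R) : Prop :=
  ∀ (Y : Over (Spec (CommRingCat.of R))) (q : Y.left ⟶ Spec (CommRingCat.of (R ⧸ J))),
    q ≫ Spec.map (CommRingCat.ofHom (Ideal.Quotient.mk J)) = Y.hom →
      ∀ h : Y ⟶ H, ∃ h' : Y ⟶ H', h' ≫ i' = h ≫ i

theorem exists_factor_split (w : sp R (DA R M) ≅ H) [IsMonHom w.hom] (w' : sp R (DA R M') ≅ H') [IsMonHom w'.hom]
    (i : H ⟶ G) [IsMonHom i] (i' : H' ⟶ G) [IsMonHom i'] [Mono i'] (hc : Central i ∨ Central i') {J : Ideal R}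
    (hJ : IsNilpotent J) (h0 : LeMod i i' J) : ∃ φ : H ⟶ H', φ ≫ i' = i := by
  let j : Spec (CommRingCat.of (R ⧸ J)) ⟶ Spec (CommRingCat.of R) := baseHom R (R ⧸ J)
  let P := Over.pullback j
  let adj := Over.mapPullbackAdj j
  let Y := (Over.map j).obj (Red.bc j (sp R (DA R M)))
  let h : Y ⟶ sp R (DA R M) := (adj.homEquiv _ _).symm (𝟙 _)
  obtain ⟨h', hh'⟩ := h0 Y (Red.bc j (sp R (DA R M))).hom rfl (h ≫ w.hom)
  let ψ : Red.bc j (sp R (DA R M)) ⟶ Red.bc j (sp R (DA R M')) := adj.homEquiv _ _ (h' ≫ w'.inv)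
  let k := w.hom ≫ i
  let k' := w'.hom ≫ i'
  haveI : Mono k' := mono_comp _ _
  haveI : PreservesLimitsOfSize.{0, 0} P := adj.rightAdjoint_preservesLimits
  haveI : Mono (P.map k') := inferInstance
  have hψ : ψ ≫ P.map k' = P.map k := by
    rw [← adj.homEquiv_naturality_right]
    have e : (h' ≫ w'.inv) ≫ k' = h ≫ k := by simp [k, k', hh']
    rw [e, adj.homEquiv_naturality_right, Equiv.apply_symm_apply, Category.id_comp]
  haveI hk : IsMonHom (M := Red.bc j (sp R (DA R M))) (N := Red.bc j G) (P.map k) := isMonHom_bc_map j k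
  haveI hk' : IsMonHom (M := Red.bc j (sp R (DA R M'))) (N := Red.bc j G) (P.map k') := isMonHom_bc_map j k'
  haveI : IsMonHom (ψ ≫ P.map k') := by rw [hψ]; exact hk
  haveI : IsMonHom ψ := isMonHom_of_comp_mono ψ (P.map k')
  obtain ⟨φ, hφ, hφψ⟩ := exists_lift hJ ψ
  haveI := hφ
  have hmap : P.map (φ ≫ k') = P.map k := by
    rw [Functor.map_comp]
    exact (congrArg (· ≫ P.map k') hφψ).trans hψ
  -- the difference is trivial modulo `J`
  have htriv : ∀ (Z : Over (Spec (CommRingCat.of R))) (g : Z ⟶ sp R (DA R M))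
      (q : Z.left ⟶ Spec (CommRingCat.of (R ⧸ J))), q ≫ j = Z.hom → g ≫ φ ≫ k' = g ≫ k := by
    intro Z g q hq
    apply Over.OverMorphism.ext
    let l : Z.left ⟶ pullback (sp R (DA R M)).hom j := pullback.lift g.left q (by rw [Over.w g, hq])
    have hl : l ≫ pullback.fst _ _ = g.left := pullback.lift_fst _ _ _
    have he : ∀ f : sp R (DA R M) ⟶ G,
        (P.map f).left ≫ pullback.fst G.hom j = pullback.fst (sp R (DA R M)).hom j ≫ f.left :=
      fun f => pullback.lift_fst _ _ _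
    rw [Over.comp_left, Over.comp_left Z _ _ g k, ← hl, Category.assoc, Category.assoc, ← he, ← he, hmap]
  have key : ∀ e f : sp R (DA R M) ⟶ G, IsMonHom e → IsMonHom f → Central f →
      (∀ (Z : Over (Spec (CommRingCat.of R))) (g : Z ⟶ sp R (DA R M))
        (q : Z.left ⟶ Spec (CommRingCat.of (R ⧸ J))), q ≫ j = Z.hom → g ≫ e = g ≫ f) → e = f := by
    intro e f he hf hfc hef
    haveI : IsMonHom (e * f⁻¹) := isMonHom_mul_inv hfc
    haveI : IsMonHom (Iso.refl (sp R (DA R M))).hom := inferInstanceAs (IsMonHom (𝟙 (sp R (DA R M))))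
    have h1 := TrivNil.act_eq_snd_split (Iso.refl (sp R (DA R M))) (transAction (e * f⁻¹)) hJ (fun Z g x q hq => by
      rw [lift_transAction, MonObj.comp_mul, GrpObj.comp_inv, hef Z g q hq, mul_inv_cancel, one_mul])
    have h2 := lift_transAction (e * f⁻¹) (𝟙 (sp R (DA R M))) 1
    rw [h1, lift_snd, Category.id_comp, mul_one] at h2
    exact mul_inv_eq_one.1 h2.symm
  have hfin : φ ≫ k' = k := by
    rcases hc with hi | hi'
    · exact key _ _ inferInstance inferInstance (central_comp hi w.hom) htriv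
    · exact (key _ _ inferInstance inferInstance (central_comp (central_comp hi' w'.hom) φ)
        fun Z g q hq => (htriv Z g q hq).symm).symm
  exact ⟨w.inv ≫ φ ≫ w'.hom, by simp only [Category.assoc, k, k'] at hfin ⊢; rw [hfin, Iso.inv_hom_id_assoc]⟩

end Split

section Base

variable {S S' : Scheme.{u}} (p : S' ⟶ S) {H G : Over S} [GrpObj H] [GrpObj G]

theorem central_bc {f : H ⟶ G} (hf : Central f) :
    Central (H := Red.bc p H) (G := Red.bc p G) ((Over.pullback p).map f) := by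
  intro X g h
  obtain ⟨g₀, rfl⟩ := ((Over.mapPullbackAdj p).homEquiv X G).surjective g
  obtain ⟨h₀, rfl⟩ := ((Over.mapPullbackAdj p).homEquiv X H).surjective h
  rw [← Adjunction.homEquiv_naturality_right, ← AlgGrp.Action.homEquiv_mul, ← AlgGrp.Action.homEquiv_mul, hf]

/-- A split piece of a locally diagonalisable group. -/
theorem exists_split_iso {R : Type u} [CommRing R] {M : Type} [AddCommGroup M] {U : Scheme.{u}} {g : U ⟶ S}
    (e : Grp.mk (Red.bc g G) ≅ Grp.mk (Red.DS U M)) (j : Spec (CommRingCat.of R) ⟶ U)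
    (p : Spec (CommRingCat.of R) ⟶ S) (hp : j ≫ g = p) :
    ∃ w : sp R (DA R M) ≅ Red.bc p G, IsMonHom w.hom := by
  subst hp
  obtain ⟨w₀, hw₀, -⟩ := TorusField.exists_DS_iso R M
  let e₁ : Red.bc g G ≅ Red.DS U M := (Grp.forget _).mapIso e
  haveI : IsMonHom e₁.inv := e.inv.hom.isMonHom_hom
  let e₂ : Red.bc (j ≫ g) G ≅ Red.bc j (Red.bc g G) := (ActBC.bcCompIso j g G rfl).symm
  let c : Red.bc j (Red.DS U M) ≅ Red.DS (Spec (CommRingCat.of R)) M :=
    ActBC.bcCompIso j _ _ (specULiftZIsTerminal.hom_ext _ _)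
  haveI : IsMonHom c.hom := ActBC.bcCompIso_isMonHom _ _ _
  haveI : IsMonHom (ActBC.bcCompIso j g G rfl).hom := ActBC.bcCompIso_isMonHom _ _ _
  haveI : IsMonHom e₂.inv := ActBC.bcCompIso_isMonHom _ _ _
  haveI hm : IsMonHom (M := Red.bc j (Red.DS U M)) (N := Red.bc j (Red.bc g G)) ((Over.pullback j).map e₁.inv) :=
    @Functor.map.instIsMonHom _ _ _ _ _ _ (Over.pullback j) _ _ _ _ _ e₁.inv _
  haveI : IsMonHom c.inv := inferInstance
  refine ⟨w₀ ≪≫ c.symm ≪≫ ((Over.pullback j).mapIso e₁).symm ≪≫ e₂.symm, ?_⟩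
  show IsMonHom (w₀.hom ≫ c.inv ≫ (Over.pullback j).map e₁.inv ≫ e₂.inv)
  infer_instance

end Base

/-- The factorisation after a base change to a split piece. -/
theorem exists_local_factor {R R' : Type u} [CommRing R] [CommRing R'] {M M' : Type} [AddCommGroup M] [AddCommGroup M']
    {G H H' : Over (Spec (CommRingCat.of R))} [GrpObj G] [GrpObj H] [GrpObj H']
    (p : Spec (CommRingCat.of R') ⟶ Spec (CommRingCat.of R))
    (w : sp R' (DA R' M) ≅ Red.bc p H) [IsMonHom w.hom] (w' : sp R' (DA R' M') ≅ Red.bc p H') [IsMonHom w'.hom]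
    (i : H ⟶ G) [IsMonHom i] (i' : H' ⟶ G) [IsMonHom i'] [Mono i'.left] (hc : Central i ∨ Central i')
    {J : Ideal R} (hJ : IsNilpotent J) (h0 : LeMod i i' J) :
    ∃ s : pullback H.hom p ⟶ pullback i.left i'.left, s ≫ pullback.fst i.left i'.left = pullback.fst H.hom p := by
  obtain ⟨φr, hφr⟩ := Spec.map_surjective p
  let P := Over.pullback p
  let adj := Over.mapPullbackAdj p
  haveI : PreservesLimitsOfSize.{0, 0} P := adj.rightAdjoint_preservesLimits
  haveI : Mono ((Over.forget _).map i') := inferInstanceAs (Mono i'.left)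
  haveI : Mono i' := Functor.mono_of_mono_map (Over.forget _) ‹_›
  haveI : Mono (P.map i') := inferInstance
  let I : Red.bc p H ⟶ Red.bc p G := P.map i
  let I' : Red.bc p H' ⟶ Red.bc p G := P.map i'
  haveI : IsMonHom I := isMonHom_bc_map p i
  haveI : IsMonHom I' := isMonHom_bc_map p i'
  haveI : Mono I' := inferInstanceAs (Mono (P.map i'))
  have hJ' : IsNilpotent (J.map φr.hom) := by
    obtain ⟨n, hn⟩ := hJ
    exact ⟨n, by rw [← Ideal.map_pow, hn]; exact Ideal.map_bot⟩
  obtain ⟨φ, hφ⟩ := exists_factor_split w w' I I' (hc.imp (central_bc p) (central_bc p)) hJ' (by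
    intro Y q hq h
    obtain ⟨h₀, rfl⟩ := (adj.homEquiv Y H).surjective h
    let ψ : CommRingCat.of (R ⧸ J) ⟶ CommRingCat.of (R' ⧸ J.map φr.hom) :=
      CommRingCat.ofHom (Ideal.quotientMap _ φr.hom Ideal.le_comap_map)
    obtain ⟨h', hh'⟩ := h0 ((Over.map p).obj Y) (q ≫ Spec.map ψ) (by
      show (q ≫ Spec.map ψ) ≫ _ = Y.hom ≫ p
      rw [← hq, ← hφr, Category.assoc, Category.assoc]
      congr 1
      have e : CommRingCat.ofHom (Ideal.Quotient.mk J) ≫ ψ =
        φr ≫ CommRingCat.ofHom (Ideal.Quotient.mk (J.map φr.hom)) := rfl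
      exact (Spec.map_comp _ _).symm.trans ((congrArg Spec.map e).trans (Spec.map_comp _ _))) h₀
    refine ⟨adj.homEquiv _ _ h', ?_⟩
    exact (adj.homEquiv_naturality_right h' i').symm.trans
      ((congrArg (adj.homEquiv Y G) hh').trans (adj.homEquiv_naturality_right h₀ i)))
  refine ⟨pullback.lift (pullback.fst H.hom p) (φ.left ≫ pullback.fst H'.hom p) ?_, pullback.lift_fst _ _ _⟩
  have := congrArg (fun m => m.left ≫ pullback.fst G.hom p) hφ
  simpa [P, I, I', pullback.lift_fst] using this.symm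

/-- Subgroups of multiplicative type, one of which is central, agreeing modulo a nilpotent ideal. -/
theorem exists_factor {R : Type u} [CommRing R] {G H H' : Over (Spec (CommRingCat.of R))}
    [GrpObj G] [GrpObj H] [GrpObj H']
    (hH : TwC.Locally (Spec (CommRingCat.of R)) TwC.Topology.fpqc (fun S' f => ∃ (M : Type) (_ : AddCommGroup M),
      Nonempty (Grp.mk (Red.bc f H) ≅ Grp.mk (Red.DS S' M))))
    (hH' : TwC.Locally (Spec (CommRingCat.of R)) TwC.Topology.fpqc (fun S' f => ∃ (M : Type) (_ : AddCommGroup M),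
      Nonempty (Grp.mk (Red.bc f H') ≅ Grp.mk (Red.DS S' M))))
    (i : H ⟶ G) [IsMonHom i] (i' : H' ⟶ G) [IsMonHom i'] [IsImmersion i'.left] (hc : Central i ∨ Central i')
    {J : Ideal R} (hJ : IsNilpotent J) (h0 : LeMod i i' J) : ∃ φ : H ⟶ H', φ ≫ i' = i := by
  obtain ⟨S₁, f, hflat, hsurj, -, hloc⟩ := hH
  obtain ⟨S₂, f', hflat', hsurj', -, hloc'⟩ := hH'
  haveI := hflat
  haveI := hflat'
  haveI := hsurj
  haveI := hsurj'
  choose U hxU M _ hiso using hloc
  choose U' hxU' M' _ hiso' using hloc'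
  let Z := pullback f f'
  have hex : ∀ z : Z, ∃ T : Z.Opens, IsAffineOpen T ∧ z ∈ T ∧
      T ≤ (pullback.fst f f') ⁻¹ᵁ U (pullback.fst f f' z) ⊓ (pullback.snd f f') ⁻¹ᵁ U' (pullback.snd f f' z) :=
    fun z => exists_isAffineOpen_mem_and_subset (X := Z) (x := z) ⟨hxU _, hxU' _⟩
  choose T hTaff hzT hTU using hex
  have hTaff' : ∀ z, IsAffine (T z : Scheme.{u}) := hTaff
  let p : ∀ z : Z, Spec (Γ((T z : Scheme.{u}), ⊤)) ⟶ Spec (CommRingCat.of R) := fun z =>
    haveI := hTaff' z
    (T z : Scheme.{u}).isoSpec.inv ≫ (T z).ι ≫ pullback.fst f f' ≫ f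
  haveI : IsPreimmersion (pullback.fst i.left i'.left) := inferInstance
  -- the local factorisations
  have hloc'' : ∀ z : Z, ∃ s : pullback H.hom (p z) ⟶ pullback i.left i'.left,
      s ≫ pullback.fst i.left i'.left = pullback.fst H.hom (p z) := by
    intro z
    haveI := hTaff' z
    let a := pullback.fst f f' z
    let b := pullback.snd f f' z
    obtain ⟨e⟩ := hiso a
    obtain ⟨e'⟩ := hiso' b
    let ι₀ := (T z : Scheme.{u}).isoSpec.inv
    let j := ι₀ ≫ (pullback.fst f f').resLE (U a) (T z) ((hTU z).trans inf_le_left)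
    let j' := ι₀ ≫ (pullback.snd f f').resLE (U' b) (T z) ((hTU z).trans inf_le_right)
    obtain ⟨w, hw⟩ := exists_split_iso e j (p z) (by
      simp only [j, p, ι₀]
      exact (Category.assoc _ _ _).trans (congrArg ((T z : Scheme.{u}).isoSpec.inv ≫ ·)
        (Scheme.Hom.resLE_comp_ι_assoc _ _ _)))
    obtain ⟨w', hw'⟩ := exists_split_iso e' j' (p z) (by
      simp only [j', p, ι₀]
      exact (Category.assoc _ _ _).trans (congrArg ((T z : Scheme.{u}).isoSpec.inv ≫ ·)
        ((Scheme.Hom.resLE_comp_ι_assoc _ _ _).trans (congrArg ((T z).ι ≫ ·) pullback.condition.symm))))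
    haveI := hw
    haveI := hw'
    exact exists_local_factor (p z) w w' i i' hc hJ h0
  choose s hs using hloc''
  let q : ∐ (fun z : Z => pullback H.hom (p z)) ⟶ H.left := Sigma.desc fun z => pullback.fst H.hom (p z)
  haveI : Flat q := by
    refine IsZariskiLocalAtSource.sigmaDesc fun z => ?_
    haveI := hTaff' z
    haveI : Flat (p z) := by
      show Flat ((T z : Scheme.{u}).isoSpec.inv ≫ (T z).ι ≫ pullback.fst f f' ≫ f)
      infer_instance
    infer_instance
  haveI : Surjective q := ⟨fun y => by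
    obtain ⟨x, hx⟩ := (pullback.fst f f' ≫ f).surjective (H.hom y)
    haveI := hTaff' x
    obtain ⟨t, ht⟩ := (T x : Scheme.{u}).isoSpec.inv.surjective ⟨x, hzT x⟩
    obtain ⟨w, hw, -⟩ := Scheme.Pullback.exists_preimage_pullback (f := H.hom) (g := p x) y t (by
      rw [← hx]
      show _ = (pullback.fst f f' ≫ f) ((T x).ι ((T x : Scheme.{u}).isoSpec.inv t))
      rw [ht]
      rfl)
    refine ⟨Sigma.ι (fun z : Z => pullback H.hom (p z)) x w, ?_⟩
    rw [← Scheme.Hom.comp_apply, Sigma.ι_desc]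
    exact hw⟩
  haveI : IsIso (pullback.fst i.left i'.left) := isIso_of_factor _ q (Sigma.desc s) (Sigma.hom_ext _ _ fun z => by
    simp [q, hs])
  refine ⟨Over.homMk (inv (pullback.fst i.left i'.left) ≫ pullback.snd i.left i'.left) ?_, ?_⟩
  · rw [Category.assoc, IsIso.inv_comp_eq, ← Over.w i', ← Over.w i, pullback.condition_assoc]
  · refine Over.OverMorphism.ext ?_
    show (inv (pullback.fst i.left i'.left) ≫ pullback.snd i.left i'.left) ≫ i'.left = i.left
    rw [Category.assoc, IsIso.inv_comp_eq, pullback.condition]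

end Groth.Agent.MultLift

namespace Groth.Agent.MultLift

/-- A map over `R ⧸ J` compatible with the maps to `G` gives the inclusion modulo `J`. -/
theorem leMod_of_hom {R : Type u} [CommRing R] {G H H' : Over (Spec (CommRingCat.of R))} (i : H ⟶ G) (i' : H' ⟶ G)
    [GrpObj G] [GrpObj H] [GrpObj H'] (J : Ideal R)
    (ψ : Red.bc (Spec.map (CommRingCat.ofHom (Ideal.Quotient.mk J))) H ⟶
      Red.bc (Spec.map (CommRingCat.ofHom (Ideal.Quotient.mk J))) H')
    (h : ψ ≫ (Over.pullback (Spec.map (CommRingCat.ofHom (Ideal.Quotient.mk J)))).map i' =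
      (Over.pullback (Spec.map (CommRingCat.ofHom (Ideal.Quotient.mk J)))).map i) : LeMod i i' J := by
  intro Y q hq g
  let j := Spec.map (CommRingCat.ofHom (Ideal.Quotient.mk J))
  let l : Y.left ⟶ pullback H.hom j := pullback.lift g.left q (by rw [Over.w g, hq])
  have e1 : ψ.left ≫ pullback.snd H'.hom j = pullback.snd H.hom j := Over.w ψ
  refine ⟨Over.homMk (l ≫ ψ.left ≫ pullback.fst H'.hom j) ?_, ?_⟩
  · rw [Category.assoc, Category.assoc, pullback.condition, reassoc_of% e1, pullback.lift_snd_assoc, hq]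
  · apply Over.OverMorphism.ext
    have := congrArg (fun m => l ≫ m.left ≫ pullback.fst G.hom j) h
    simpa [j, l, pullback.lift_fst, pullback.lift_fst_assoc] using this.trans (by rw [show ((Over.pullback j).map i).left ≫ pullback.fst G.hom j = pullback.fst H.hom j ≫ i.left from pullback.lift_fst _ _ _, pullback.lift_fst_assoc])

end Groth.Agent.MultLift
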