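import Groth.Agent.DiagHopfLib.Nilp
import Groth.Agent.DiagHopfLib.Connected
import Groth.Agent.DiagRepLib.Split
import Groth.Agent.FreeActLib.Algebra

/-!
Homomorphisms between diagonalisable groups lift along nilpotent ideals.
-/

set_option autoImplicit false

noncomputable section

universe u

open CategoryTheory MonoidalCategory CartesianMonoidalCategory AlgebraicGeometry CoactBr WithConv
open scoped MonObj TensorProduct

namespace Groth.Agent.MultLift

open Groth.Agent.TorusField Groth.Agent.DiagHopf Groth.Agent.DiagRep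
open Groth.Agent.FreeAct (DA)

attribute [local instance] CoactBr.braidedAlgSpecOf

variable (R : Type u) [CommRing R] (M : Type) [AddCommGroup M]

theorem groupLike_single (m : Multiplicative M) : IsGroupLikeElem R (MonoidAlgebra.single m (1 : R) : DA R M) where
  counit_eq_one := by simp
  comul_eq_tmul_self := by simp

/-- The tautological splitting. -/
def split₀ : Split R (DA R M) M R where
  e := Algebra.TensorProduct.basis R ((MonoidAlgebra.basis (Multiplicative M) R).reindex Multiplicative.toAdd)
  e_zero := by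
    simp [MonoidAlgebra.one_def, Algebra.TensorProduct.one_def]
  e_add a b := by
    simp [MonoidAlgebra.single_mul_single, Algebra.TensorProduct.tmul_mul_tmul]
  gl a := by
    simp only [Algebra.TensorProduct.basis_apply, Module.Basis.reindex_apply, MonoidAlgebra.basis_apply]
    exact isGL_one_tmul (groupLike_single R M _) R

variable {R M} {M' : Type} [AddCommGroup M']

set_option maxHeartbeats 1000000 in
/-- Lifting of homomorphisms of diagonalisable groups along a nilpotent ideal. -/
theorem exists_lift {J : Ideal R} (hJ : IsNilpotent J)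
    (ψ : Red.bc (baseHom R (R ⧸ J)) (sp R (DA R M)) ⟶ Red.bc (baseHom R (R ⧸ J)) (sp R (DA R M')))
    [IsMonHom ψ] :
    ∃ φ : sp R (DA R M) ⟶ sp R (DA R M'), IsMonHom φ ∧ (Over.pullback (baseHom R (R ⧸ J))).map φ = ψ := by
  let K : Type u := R ⧸ J
  let bA : Red.bc (baseHom R K) (sp R (DA R M)) ⟶ sp K (K ⊗[R] DA R M) := bcHom R K (DA R M)
  let bA' : Red.bc (baseHom R K) (sp R (DA R M')) ⟶ sp K (K ⊗[R] DA R M') := bcHom R K (DA R M')
  haveI : IsIso bA := inferInstanceAs (IsIso (bcHom _ _ _))
  haveI : IsMonHom bA := isMonHom_bcHom _ _ _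
  haveI : IsMonHom bA' := isMonHom_bcHom _ _ _
  haveI : IsMonHom (inv bA) := by
    haveI : IsMonHom (asIso bA).hom := isMonHom_bcHom _ _ _
    exact inferInstanceAs (IsMonHom (asIso bA).inv)
  obtain ⟨f, hf⟩ := exists_pt (inv bA ≫ ψ ≫ bA')
  haveI : IsMonHom (pt f) := hf ▸ inferInstance
  -- images of the characters
  let c : Multiplicative M' → K ⊗[R] DA R M := fun m => f ((1 : K) ⊗ₜ MonoidAlgebra.single m 1)
  have hc : ∀ m, IsGL R (DA R M) K (c m) := fun m => by
    have hg := DiagHopf.groupLike_of_isGL (isGL_one_tmul (groupLike_single R M' m) K)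
    refine DiagHopf.isGL_of_groupLike ?_ ?_
    · have h := DFunLike.congr_fun (congrArg WithConv.ofConv (comul_comp_of_isMonHom f)) ((1 : K) ⊗ₜ MonoidAlgebra.single m 1)
      rw [AlgHom.comp_apply, Bialgebra.comulAlgHom_apply] at h
      rw [h, AlgHom.convMul_apply, hg.comul_eq_tmul_self]
      simp [c]
    · have h := DFunLike.congr_fun (counit_comp_of_isMonHom f) ((1 : K) ⊗ₜ MonoidAlgebra.single m 1)
      rw [AlgHom.comp_apply, Bialgebra.counitAlgHom_apply, Bialgebra.counitAlgHom_apply] at h
      rw [h, hg.counit_eq_one]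
  let q : R →ₐ[R] K := Algebra.ofId R K
  have hq : Function.Surjective q := Ideal.Quotient.mk_surjective
  have hnil : ∀ x, q x = 0 → IsNilpotent x := fun x hx => by
    obtain ⟨n, hn⟩ := hJ
    refine ⟨n, ?_⟩
    have h := Ideal.pow_mem_pow (Ideal.Quotient.eq_zero_iff_mem.1 hx) n
    rw [hn] at h
    exact (Submodule.mem_bot R).1 h
  choose x hx hqx using fun m => exists_gl_lift (split₀ R M) q hq hnil (hc m)
  have uniq : ∀ {a b}, IsGL R (DA R M) R a → IsGL R (DA R M) R b → push q a = push q b → a = b :=
    fun ha hb h => gl_eq_of_push_eq (split₀ R M) q hnil ha hb h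
  have hx1 : x 1 = 1 := uniq (hx 1) ((split₀ R M).e_zero ▸ (split₀ R M).gl 0) (by
    rw [hqx, map_one]
    simp only [c, ← MonoidAlgebra.one_def, ← Algebra.TensorProduct.one_def, map_one])
  have hxmul : ∀ a b, x (a * b) = x a * x b := fun a b => uniq (hx _) ((hx a).mul (hx b)) (by
    rw [hqx, map_mul, hqx, hqx]
    simp only [c, ← map_mul, Algebra.TensorProduct.tmul_mul_tmul, one_mul, MonoidAlgebra.single_mul_single])
  let l : R ⊗[R] DA R M ≃ₐ[R] DA R M := Algebra.TensorProduct.lid R (DA R M)
  let χ : Multiplicative M' →* DA R M :=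
    { toFun := fun m => l (x m)
      map_one' := by rw [hx1, map_one]
      map_mul' := fun a b => by rw [hxmul, map_mul] }
  have hl : ∀ z : R ⊗[R] DA R M, z = (1 : R) ⊗ₜ[R] l z := fun z => by
    apply l.injective
    simp [l]
  have hgl : ∀ m, IsGroupLikeElem R (l (x m)) := fun m => by
    obtain ⟨h1, h2⟩ := hx m
    rw [hl (x m)] at h1 h2
    refine ⟨?_, ?_⟩
    · simpa [ev1] using h2
    · have := congrArg (Algebra.TensorProduct.lid R (DA R M ⊗[R] DA R M)) h1
      simpa [D, J₁, J₂, Algebra.TensorProduct.tmul_mul_tmul] using this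
  let F : DA R M' →ₐ[R] DA R M := MonoidAlgebra.lift R (DA R M) (Multiplicative M') χ
  have hF : ∀ m, F (MonoidAlgebra.single m 1) = l (x m) := fun m => by simp [F, χ]
  refine ⟨pt F, isMonHom_pt F (AlgHom.toLinearMap_injective ((MonoidAlgebra.basis _ R).ext fun m => ?_))
    (AlgHom.toLinearMap_injective ((MonoidAlgebra.basis _ R).ext fun m => ?_)), ?_⟩
  · simp [hF, (hgl m).counit_eq_one]
  · simp [hF, (hgl m).comul_eq_tmul_self]
  · have e : Algebra.TensorProduct.map (AlgHom.id K K) F = f := by
      refine Algebra.TensorProduct.ext (Subsingleton.elim _ _) ?_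
      refine AlgHom.toLinearMap_injective ((MonoidAlgebra.basis _ R).ext fun m => ?_)
      have h1 : push q (x m) = (1 : K) ⊗ₜ[R] l (x m) := by
        conv_lhs => rw [hl (x m)]
        simp [push, q]
      simp only [MonoidAlgebra.basis_apply, AlgHom.toLinearMap_apply, AlgHom.comp_apply,
        AlgHom.coe_restrictScalars', Algebra.TensorProduct.includeRight_apply, Algebra.TensorProduct.map_tmul,
        AlgHom.id_apply, hF]
      rw [← h1, hqx]
    have h := map_bcHom (K := K) F
    rw [e, ← hf] at h
    have h' : (Over.pullback (baseHom R K)).map (pt F) ≫ bA' = bA ≫ inv bA ≫ ψ ≫ bA' := h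
    rw [IsIso.hom_inv_id_assoc] at h'
    haveI : IsIso bA' := inferInstanceAs (IsIso (bcHom _ _ _))
    exact (cancel_mono bA').1 h'

end Groth.Agent.MultLift
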